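import Groth.Prelude.Def_W4c3ghconstell
import Groth.Agent.HopfLib.Comod
import Mathlib.Analysis.Normed.Group.InfiniteSum

/-! Isotypic pieces of subcomodules and their weights. -/

set_option autoImplicit false
set_option linter.unusedSectionVars false
set_option linter.style.haveILetI false

universe u v w x

open TensorProduct HopfRep W4c3ghconstell

namespace Groth.Agent.Constell5

open HopfLib

section Coalg

variable {k : Type u} [Field k] {A : Type v} [AddCommGroup A] [Module k A] [Coalgebra k A]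
variable {M : Type x} [AddCommGroup M] [Module k M] [Comod k A M]

theorem mem_isoComp {D : Submodule k A} {y : M} :
    y ∈ isoComp M D ↔ ∀ f : M →ₗ[k] k, cf (A := A) f y ∈ D := by
  rw [isoComp, Submodule.mem_comap]
  exact mem_range_lTensor_subtype_iff

theorem isSubcomod_isoComp {D : Submodule k A} (hD : IsSubcoalg k A D) :
    IsSubcomod (k := k) (A := A) (isoComp M D) := by
  rw [isSubcomod_iff_hit]
  intro g y hy
  rw [mem_isoComp] at hy ⊢
  intro f
  have e : cf (A := A) f (hit g y) = sliceR g (Coalgebra.comul (R := k) (cf (A := A) f y)) := by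
    rw [sliceL_coact_comul, sliceR_rTensor, hit_apply]
  rw [e]
  exact (mem_range_map_subtype_iff.1 (hD _ (hy f))).1 g

/-- Two forms agreeing on `D` act alike on the `D`-component. -/
theorem hit_eq_of_eqOn {D : Submodule k A} {g h : A →ₗ[k] k} (hgh : ∀ d ∈ D, g d = h d) {y : M}
    (hy : y ∈ isoComp M D) : hit g y = hit h y := by
  rw [isoComp, Submodule.mem_comap] at hy
  obtain ⟨s, hs⟩ := hy
  rw [hit_apply, hit_apply, ← hs]
  clear hs
  induction s using TensorProduct.induction_on with
  | zero => simp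
  | add p q hp hq => simp only [map_add, hp, hq]
  | tmul m d => simp [hgh d d.2]

theorem isSubcoalg_inf {D E : Submodule k A} (hD : IsSubcoalg k A D) (hE : IsSubcoalg k A E) :
    IsSubcoalg k A (D ⊓ E) := fun d hd => by
  have h1 := mem_range_map_subtype_iff.1 (hD d hd.1)
  have h2 := mem_range_map_subtype_iff.1 (hE d hd.2)
  exact mem_range_map_subtype_iff.2 ⟨fun g => ⟨h1.1 g, h2.1 g⟩, fun f => ⟨h1.2 f, h2.2 f⟩⟩

theorem inf_eq_bot (D E : SimpSub k A) (h : D ≠ E) : D.1 ⊓ E.1 = ⊥ := by
  rcases D.2.2.2 _ inf_le_left (isSubcoalg_inf D.2.2.1 E.2.2.1) with h0 | h1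
  · exact h0
  · have hle : D.1 ≤ E.1 := inf_eq_left.1 h1
    rcases E.2.2.2 _ hle D.2.2.1 with h0 | h0
    · exact absurd h0 D.2.1
    · exact absurd (Subtype.ext h0) h

theorem exists_form (D₀ D₁ : Submodule k A) (h : D₀ ⊓ D₁ = ⊥) :
    ∃ g : A →ₗ[k] k, (∀ d ∈ D₀, g d = (0 : A →ₗ[k] k) d) ∧
      ∀ d ∈ D₁, g d = Coalgebra.counit (R := k) d := by
  have hinj : LinearMap.ker (D₀.mkQ ∘ₗ D₁.subtype) = ⊥ := by
    rw [LinearMap.ker_eq_bot']
    intro d hd
    have : (d : A) ∈ D₀ ⊓ D₁ := ⟨(Submodule.Quotient.mk_eq_zero D₀).1 hd, d.2⟩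
    rw [h, Submodule.mem_bot] at this
    exact Subtype.ext this
  obtain ⟨r, hr⟩ := (D₀.mkQ ∘ₗ D₁.subtype).exists_leftInverse_of_injective hinj
  refine ⟨Coalgebra.counit (R := k) ∘ₗ D₁.subtype ∘ₗ r ∘ₗ D₀.mkQ, fun d hd => ?_, fun d hd => ?_⟩
  · simp [(Submodule.Quotient.mk_eq_zero D₀).2 hd]
  · have := LinearMap.congr_fun hr ⟨d, hd⟩
    simp only [LinearMap.comp_apply, Submodule.subtype_apply, LinearMap.id_apply] at this
    simp only [LinearMap.comp_apply, Submodule.subtype_apply]
    rw [this]

theorem hit_zero (y : M) : hit (0 : A →ₗ[k] k) y = 0 := by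
  have := hit_smul (0 : k) (0 : A →ₗ[k] k) y
  simpa using this

/-- A nonzero subcomodule of a sum of isotypic components meets one of them. -/
theorem exists_inf_isoComp_ne_bot {N : Submodule k M} (hN : IsSubcomod (k := k) (A := A) N)
    (hne : N ≠ ⊥) (hsup : (⨆ D : SimpSub k A, isoComp M D.1) = ⊤) :
    ∃ D : SimpSub k A, N ⊓ isoComp M D.1 ≠ ⊥ := by
  classical
  by_contra! hall
  obtain ⟨v, hv, hv0⟩ := (Submodule.ne_bot_iff N).1 hne
  have key : ∀ (n : ℕ) (F : Finset (SimpSub k A)), F.card ≤ n → ∀ w ∈ N,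
      w ∈ (⨆ D ∈ F, isoComp M D.1) → w = 0 := by
    intro n
    induction n with
    | zero =>
      intro F hF w _ hw
      rw [Finset.card_eq_zero.1 (Nat.le_zero.1 hF)] at hw
      simpa using hw
    | succ n ih =>
      intro F hF w hwN hw
      rcases F.eq_empty_or_nonempty with rfl | ⟨D₀, hD₀⟩
      · simpa using hw
      by_cases hone : ∃ D₁ ∈ F, D₁ ≠ D₀
      · obtain ⟨D₁, hD₁, hne₁⟩ := hone
        obtain ⟨g, hg0, hg1⟩ := exists_form D₀.1 D₁.1 (inf_eq_bot D₀ D₁ hne₁.symm)
        have himg : hit g w ∈ (⨆ D ∈ F.erase D₀, isoComp M D.1) := by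
          have : (⨆ D ∈ F, isoComp M D.1) ≤ (⨆ D ∈ F.erase D₀, isoComp M D.1).comap (hit g) := by
            refine iSup₂_le fun D hD y hy => ?_
            rw [Submodule.mem_comap]
            by_cases hDD : D = D₀
            · subst hDD
              rw [hit_eq_of_eqOn hg0 hy, hit_zero]
              exact zero_mem _
            · exact le_iSup₂_of_le (f := fun D (_ : D ∈ F.erase D₀) => isoComp M D.1) D
                (Finset.mem_erase.2 ⟨hDD, hD⟩) le_rfl
                (IsSubcomod.hit_mem (isSubcomod_isoComp D.2.2.1) g hy)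
          exact this hw
        have h0 : hit g w = 0 :=
          ih _ (by rw [Finset.card_erase_of_mem hD₀]; omega) _ (IsSubcomod.hit_mem hN g hwN) himg
        rw [← Finset.insert_erase hD₁, Finset.iSup_insert, Submodule.mem_sup] at hw
        obtain ⟨x₁, hx₁, rest, hrest, rfl⟩ := hw
        have hrest' : hit g rest ∈ (⨆ D ∈ F.erase D₁, isoComp M D.1) := by
          have : (⨆ D ∈ F.erase D₁, isoComp M D.1) ≤ (⨆ D ∈ F.erase D₁, isoComp M D.1).comap (hit g) :=
            iSup₂_le fun D hD y hy => le_iSup₂_of_le (f := fun D (_ : D ∈ F.erase D₁) => isoComp M D.1) D hD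
              le_rfl (IsSubcomod.hit_mem (isSubcomod_isoComp D.2.2.1) g hy)
          exact this hrest
        rw [map_add, hit_eq_of_eqOn hg1 hx₁, hit_counit] at h0
        refine ih _ (by rw [Finset.card_erase_of_mem hD₁]; omega) _ hwN ?_
        rw [eq_neg_of_add_eq_zero_left h0]
        exact add_mem (neg_mem hrest') hrest
      · push Not at hone
        have hF1 : (⨆ D ∈ F, isoComp M D.1) ≤ isoComp M D₀.1 := iSup₂_le fun D hD => by rw [hone D hD]
        have : w ∈ N ⊓ isoComp M D₀.1 := ⟨hwN, hF1 hw⟩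
        rwa [hall D₀, Submodule.mem_bot] at this
  have hv' : v ∈ (⨆ D : SimpSub k A, isoComp M D.1) := hsup ▸ Submodule.mem_top
  obtain ⟨F, hF⟩ := Submodule.exists_finset_of_mem_iSup _ hv'
  exact hv0 (key _ F le_rfl v hv hF)

end Coalg

section Gen

variable {k : Type u} [Field k] {A : Type v} [CommRing A] [HopfAlgebra k A]
variable {R : Type w} [CommRing R] [Algebra k R] [Comod k A R]
variable {M : Type x} [AddCommGroup M] [Module k M] [Module R M] [IsScalarTower k R M]
  [Comod k A M]

theorem genIn_le (S : Set (SimpSub k A)) (N : Submodule R M) : genIn k A R M S N ≤ N := by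
  rw [genIn, Submodule.span_le]
  exact Set.iUnion₂_subset fun D _ y hy => hy.1

theorem inf_isoComp_le_genIn {S : Set (SimpSub k A)} {D : SimpSub k A} (hD : D ∈ S) (N : Submodule R M) :
    N.restrictScalars k ⊓ isoComp M D.1 ≤ (genIn k A R M S N).restrictScalars k :=
  fun _ hy => Submodule.subset_span (Set.mem_biUnion hD hy)

theorem genIn_inf_isoComp {S : Set (SimpSub k A)} {D : SimpSub k A} (hD : D ∈ S) (N : Submodule R M) :
    (genIn k A R M S N).restrictScalars k ⊓ isoComp M D.1 = N.restrictScalars k ⊓ isoComp M D.1 :=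
  le_antisymm (inf_le_inf_right _ fun _ hy => genIn_le S N hy)
    (le_inf (inf_isoComp_le_genIn hD N) inf_le_right)

theorem genIn_genIn (S : Set (SimpSub k A)) (N : Submodule R M) :
    genIn k A R M S (genIn k A R M S N) = genIn k A R M S N := by
  refine le_antisymm (genIn_le S _) ?_
  conv_lhs => rw [genIn]
  rw [Submodule.span_le]
  refine Set.iUnion₂_subset fun D hD y hy => ?_
  exact inf_isoComp_le_genIn hD _ ((genIn_inf_isoComp hD N).symm ▸ hy)

variable [TameAct.IsHopfMod k A R M]

theorem isSubcomod_genIn (S : Set (SimpSub k A)) {N : Submodule R M}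
    (hN : IsSubcomod (k := k) (A := A) (N.restrictScalars k)) :
    IsSubcomod (k := k) (A := A) ((genIn k A R M S N).restrictScalars k) := by
  intro y hy
  rw [Submodule.restrictScalars_mem] at hy
  let U := (genIn k A R M S N).restrictScalars k
  have hmul : ∀ (b : R ⊗[k] A) (t : M ⊗[k] A), t ∈ LinearMap.range (U.subtype.rTensor A) →
      TameAct.hmSMul k A R M b t ∈ LinearMap.range (U.subtype.rTensor A) := by
    rintro b _ ⟨s, rfl⟩
    induction b using TensorProduct.induction_on with
    | zero => simp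
    | add p q hp hq => rw [map_add, LinearMap.add_apply]; exact add_mem hp hq
    | tmul r a =>
      induction s using TensorProduct.induction_on with
      | zero => simp
      | add p q hp hq => rw [map_add, map_add]; exact add_mem hp hq
      | tmul m c =>
        have hm : r • (m : M) ∈ U := Submodule.smul_mem (genIn k A R M S N) r m.2
        exact ⟨(⟨r • (m : M), hm⟩ : U) ⊗ₜ (a * c), by simp⟩
  unfold genIn at hy
  induction hy using Submodule.span_induction with
  | mem z hz =>
    obtain ⟨D, hD, hzD⟩ := Set.mem_iUnion₂.1 hz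
    exact range_rTensor_subtype_mono (inf_isoComp_le_genIn hD N) (isSubcomod_inf hN (isSubcomod_isoComp D.2.2.1) z hzD)
  | zero => simp
  | add a b _ _ ha hb => rw [map_add]; exact add_mem ha hb
  | smul r z _ hz => rw [TameAct.IsHopfMod.coact_smul (k := k) (A := A)]; exact hmul _ _ hz

end Gen

section Weight

variable {k : Type u} [Field k] {A : Type v} [AddCommGroup A] [Module k A] [Coalgebra k A]
variable {R : Type w} [CommRing R] [Algebra k R]
variable {M : Type x} [AddCommGroup M] [Module k M] [Module R M] [IsScalarTower k R M] [Comod k A M]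
variable {h : SimpSub k A → ℕ} {θ : SimpSub k A → ℚ}

theorem hilbAt_top (hM : IsConstellation k A R M h) (D : SimpSub k A) : hilbAt M ⊤ D = h D := by
  rw [hilbAt, top_inf_eq]
  exact (hM.2.2 D).2

theorem hilbAt_mono (hM : IsConstellation k A R M h) {N N' : Submodule k M} (hle : N ≤ N') (D : SimpSub k A) :
    hilbAt M N D ≤ hilbAt M N' D := by
  haveI := (hM.2.2 D).1
  haveI : Module.Finite k ↥(N' ⊓ isoComp M D.1) := Submodule.finiteDimensional_of_le inf_le_right
  exact Submodule.finrank_mono (inf_le_inf_right _ hle)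

theorem hilbAt_eq_zero_iff (hM : IsConstellation k A R M h) {N : Submodule k M} {D : SimpSub k A} :
    hilbAt M N D = 0 ↔ N ⊓ isoComp M D.1 = ⊥ := by
  haveI := (hM.2.2 D).1
  haveI : Module.Finite k ↥(N ⊓ isoComp M D.1) := Submodule.finiteDimensional_of_le inf_le_right
  exact Submodule.finrank_eq_zero

theorem isoComp_le_of_hilbAt_eq (hM : IsConstellation k A R M h) {N : Submodule k M} {D : SimpSub k A}
    (he : hilbAt M N D = h D) : isoComp M D.1 ≤ N := by
  haveI := (hM.2.2 D).1
  have := Submodule.eq_of_le_of_finrank_eq (inf_le_right : N ⊓ isoComp M D.1 ≤ _) (he.trans (hM.2.2 D).2.symm)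
  exact this ▸ inf_le_left

theorem hilbAt_bot (D : SimpSub k A) : hilbAt M (⊥ : Submodule k M) D = 0 := by
  rw [hilbAt, bot_inf_eq, finrank_bot]

theorem theta_bot : theta M θ (⊥ : Submodule k M) = 0 := by simp [theta, hilbAt_bot]

theorem summable (hM : IsConstellation k A R M h) (hs : Summable fun D => (θ D : ℝ) * (h D : ℝ))
    (N : Submodule k M) : Summable fun D => (θ D : ℝ) * (hilbAt M N D : ℝ) := by
  refine Summable.of_norm_bounded hs.abs fun D => ?_
  rw [Real.norm_eq_abs, abs_mul, abs_mul, Nat.abs_cast, Nat.abs_cast]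
  refine mul_le_mul_of_nonneg_left (Nat.cast_le.2 ?_) (abs_nonneg _)
  exact (hilbAt_mono hM le_top D).trans (hilbAt_top hM D).le

/-- Passing to a larger subspace with the same negative parts only increases the weight. -/
theorem term_le (hM : IsConstellation k A R M h) {N N' : Submodule k M} (hle : N ≤ N')
    (hneg : ∀ D, θ D < 0 → hilbAt M N D = hilbAt M N' D) (D : SimpSub k A) :
    (θ D : ℝ) * (hilbAt M N D : ℝ) ≤ (θ D : ℝ) * (hilbAt M N' D : ℝ) := by
  rcases lt_or_ge (θ D) 0 with hD | hD
  · rw [hneg D hD]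
  · exact mul_le_mul_of_nonneg_left (Nat.cast_le.2 (hilbAt_mono hM hle D)) (by exact_mod_cast hD)

theorem theta_le (hM : IsConstellation k A R M h) (hs : Summable fun D => (θ D : ℝ) * (h D : ℝ))
    {N N' : Submodule k M} (hle : N ≤ N') (hneg : ∀ D, θ D < 0 → hilbAt M N D = hilbAt M N' D) :
    theta M θ N ≤ theta M θ N' :=
  (summable hM hs N).tsum_le_tsum (term_le hM hle hneg) (summable hM hs N')

theorem eq_of_theta_ge (hM : IsConstellation k A R M h) (hs : Summable fun D => (θ D : ℝ) * (h D : ℝ))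
    {N N' : Submodule k M} (hle : N ≤ N') (hneg : ∀ D, θ D < 0 → hilbAt M N D = hilbAt M N' D)
    (hge : theta M θ N' ≤ theta M θ N) (D : SimpSub k A) (hD : θ D ≠ 0) :
    hilbAt M N D = hilbAt M N' D := by
  by_contra hne
  have hlt : (θ D : ℝ) * (hilbAt M N D : ℝ) < (θ D : ℝ) * (hilbAt M N' D : ℝ) :=
    lt_of_le_of_ne (term_le hM hle hneg D) fun e => hne (by
      have := mul_left_cancel₀ (by exact_mod_cast hD : (θ D : ℝ) ≠ 0) e
      exact_mod_cast this)
  exact absurd hge (not_le.2 ((summable hM hs N).tsum_lt_tsum (term_le hM hle hneg) hlt (summable hM hs N')))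

theorem theta_top (hM : IsConstellation k A R M h) (hsum : HasSum (fun D => (θ D : ℝ) * (h D : ℝ)) 0) :
    theta M θ ⊤ = 0 := by
  rw [theta]
  simp only [hilbAt_top hM]
  exact hsum.tsum_eq

end Weight

end Groth.Agent.Constell5
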